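import Cfsg.Agent.OddHalf.D4.Spor.Fi22
import Cfsg.Agent.H226.Tall.Gen

/-!
# S2927, row `Fi22` (helper711)

`both_fi22`: an elementary abelian subgroup `W` normal in `C(z)`, `z = a b` a product of two commuting transpositions,
contains no other product of two commuting transpositions.
-/

set_option autoImplicit false
set_option linter.unusedSectionVars false

namespace Cfsg.Agent.H711.TallFi

open Cfsg Cfsg.Agent.LieClassical.HermBasic Cfsg.Agent.ClassicalGeometry.UnitTransv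
open Cfsg.Agent.SporadicStructure.UnitTwo
open Cfsg.Agent.R01.Lifts Cfsg.Agent.R01.PSUSix Cfsg.Agent.R01.Label Cfsg.Agent.R01.InvForm
open Cfsg.Agent.R01 Cfsg.Agent.R01.Start Cfsg.Agent.R01.FiFusion Cfsg.Agent.R01.FiFacts
open Cfsg.Agent.ClassicalGeometry.UnitAutBasic (tau pr pr_surjective pr_eq_of_scalar)
open Cfsg.Agent.StdFi22.TLev Cfsg.Agent.StdFi22.Rigid Cfsg.Agent.OddHalf.D4.Spor.Fi22

section abs

variable {P : Type*} [Group P] [Finite P] {F : Type*} [Field F] [Fintype F]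
  {hF : Fintype.card F = 2 ^ 2} {T : Set P}

section label

variable {q : P} {π : Subgroup.centralizer ({q} : Set P) →* PSU 6 F 2}
  {lift : (Fin 6 → F) → Subgroup.centralizer ({q} : Set P)}

/-- A labelled transposition conjugates a labelled transposition. -/
theorem conj_coe (L : Lab hF π (zel q) (zel q) lift) {v w : Fin 6 → F} (hv : hermForm 6 F 2 v v = 0)
    (hw : hermForm 6 F 2 w w = 0) (hv0 : v ≠ 0) (hw0 : w ≠ 0) :
    (lift v : P) * (lift w : P) * (lift v : P) = (lift (w + hermForm 6 F 2 w v • v) : P) :=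
  congrArg Subtype.val (L.conj_lift hv hw hv0 hw0)

/-- **The core**: no product `t t'`, `t`, `t'` in a hexad with `q`, `lift u`. -/
theorem core (B : Bas hF T) (L : Lab hF π (zel q) (zel q) lift)
    (hiff : ∀ x : Subgroup.centralizer ({q} : Set P), (x : P) ∈ T ↔ x = zel q ∨ x ∈ Dset lift)
    {u v w : Fin 6 → F} (hf : Fr3 u v w) {k : F} (hk : k ≠ 0) {N : Subgroup P} (sqN : ∀ n ∈ N, n * n = 1)
    (norm : ∀ g ∈ T, g * q = q * g → g * (lift u : P) = lift u * g → ∀ n ∈ N, g * n * g ∈ N) :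
    (lift v : P) * (lift (k • u + v) : P) ∉ N := by
  intro hp
  obtain ⟨f, fr⟩ := HermPlane.exists_frame_of_fr3 hF hf
  obtain ⟨ω, hω⟩ := exists_omega hF
  have h2 : (2 : F) = 0 := AllOfLab.two_eq_zero' hF
  have zc : ∀ x : Subgroup.centralizer ({q} : Set P), q * (x : P) = (x : P) * q :=
    fun x => AllOfLab.zel_comm x
  have mem : ∀ x : Fin 6 → F, x ≠ 0 → hermForm 6 F 2 x x = 0 → (lift x : P) ∈ T :=
    fun x h0 hx => (hiff _).2 (Or.inr (Lab.mem_D h0 hx))
  have com : ∀ {x y : Fin 6 → F}, x ≠ 0 → y ≠ 0 → hermForm 6 F 2 x x = 0 → hermForm 6 F 2 y y = 0 →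
      ((lift x : P) * (lift y : P) = (lift y : P) * (lift x : P) ↔ hermForm 6 F 2 x y = 0) := by
    intro x y hx0 hy0 hx hy
    rw [← L.commute_iff hx hy hx0 hy0, AllOfLab.comm_coe]
  have sq : ∀ x : Fin 6 → F, x ≠ 0 → hermForm 6 F 2 x x = 0 → (lift x : P) * (lift x : P) = 1 :=
    fun x h0 hx => B.sq (mem x h0 hx)
  -- the frame
  have uu := hf.uu
  have vv := hf.vv
  have ww := hf.ww
  have uv := hf.uv
  have uw := hf.uw
  have vw := hf.vw
  have vu := herm_eq_zero_swap hF uv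
  have wu := herm_eq_zero_swap hF uw
  have wv := herm_eq_zero_swap hF vw
  obtain ⟨s, hs⟩ : ∃ s, s = f 1 := ⟨_, rfl⟩
  obtain ⟨r, hr⟩ : ∃ r, r = f 2 := ⟨_, rfl⟩
  have us : hermForm 6 F 2 u s = 0 := by rw [hs]; simpa using fr.ef 0 1
  have ur : hermForm 6 F 2 u r = 0 := by rw [hr]; simpa using fr.ef 0 2
  have vs : hermForm 6 F 2 v s = 1 := by rw [hs]; simpa using fr.ef 1 1
  have vr : hermForm 6 F 2 v r = 0 := by rw [hr]; simpa using fr.ef 1 2
  have ws : hermForm 6 F 2 w s = 0 := by rw [hs]; simpa using fr.ef 2 1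
  have wr : hermForm 6 F 2 w r = 1 := by rw [hr]; simpa using fr.ef 2 2
  have ss : hermForm 6 F 2 s s = 0 := by rw [hs]; exact fr.ff 1 1
  have sr : hermForm 6 F 2 s r = 0 := by rw [hs, hr]; exact fr.ff 1 2
  have rs : hermForm 6 F 2 r s = 0 := by rw [hs, hr]; exact fr.ff 2 1
  have rr : hermForm 6 F 2 r r = 0 := by rw [hr]; exact fr.ff 2 2
  have su := herm_eq_zero_swap hF us
  have ru := herm_eq_zero_swap hF ur
  have rv := herm_eq_zero_swap hF vr
  have sw := herm_eq_zero_swap hF ws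
  have sv : hermForm 6 F 2 s v = 1 := by rw [herm_swap hF, vs, one_pow]
  have rw' : hermForm 6 F 2 r w = 1 := by rw [herm_swap hF, wr, one_pow]
  have hω3 : ω ^ 3 = 1 := by linear_combination (ω - 1) * hω
  have hω0 : ω ≠ 0 := by
    rintro rfl
    norm_num at hω
  obtain ⟨y, hy⟩ : ∃ y, y = ω ^ 2 • s + v + ω • w + r := ⟨_, rfl⟩
  have yu : hermForm 6 F 2 y u = 0 := by
    rw [hy]
    simp only [herm_add_left, herm_smul_left, su, vu, wu, ru]
    ring
  have uy := herm_eq_zero_swap hF yu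
  have vy : hermForm 6 F 2 v y = ω := by
    rw [hy]
    simp only [herm_add_right hF, herm_smul_right, vs, vv, vw, vr]
    linear_combination ω * hω3
  have sy : hermForm 6 F 2 s y = 1 := by
    rw [hy]
    simp only [herm_add_right hF, herm_smul_right, ss, sv, sw, sr]
    ring
  have yv : hermForm 6 F 2 y v = ω ^ 2 := by rw [herm_swap hF, vy]
  have yy : hermForm 6 F 2 y y = 0 := by
    have wy : hermForm 6 F 2 w y = 1 := by
      rw [hy]
      simp only [herm_add_right hF, herm_smul_right, ws, wv, ww, wr]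
      ring
    have ry : hermForm 6 F 2 r y = ω ^ 2 := by
      rw [hy]
      simp only [herm_add_right hF, herm_smul_right, rs, rv, rw', rr]
      ring
    nth_rewrite 1 [hy]
    simp only [herm_add_left, herm_smul_left, sy, vy, wy, ry]
    linear_combination (ω ^ 2 + ω) * h2
  have hv0 : v ≠ 0 := hf.v_ne
  have hu0 : u ≠ 0 := hf.u_ne
  have ne_of : ∀ {a b : Fin 6 → F}, hermForm 6 F 2 a b ≠ 0 → a ≠ 0 := by
    rintro a b h rfl
    exact h (herm_zero_left b)
  have s0 : s ≠ 0 := ne_of (by rw [sv]; exact one_ne_zero)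
  have y0 : y ≠ 0 := ne_of (by rw [yv]; exact pow_ne_zero 2 hω0)
  -- the vectors
  obtain ⟨v', hv'⟩ : ∃ v', v' = k • u + v := ⟨_, rfl⟩
  rw [← hv'] at hp
  have v'v' : hermForm 6 F 2 v' v' = 0 := by
    rw [hv']
    simp only [herm_add_left, herm_smul_left, herm_add_right hF, herm_smul_right, uu, uv, vu, vv]
    ring
  have v's : hermForm 6 F 2 v' s = 1 := by
    rw [hv']
    simp only [herm_add_left, herm_smul_left, us, vs]
    ring
  have v'y : hermForm 6 F 2 v' y = ω := by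
    rw [hv']
    simp only [herm_add_left, herm_smul_left, uy, vy]
    ring
  have v'0 : v' ≠ 0 := ne_of (by rw [v's]; exact one_ne_zero)
  have conj2 : ∀ {x a b : Fin 6 → F}, x ≠ 0 → hermForm 6 F 2 x x = 0 → a ≠ 0 → hermForm 6 F 2 a a = 0 → b ≠ 0 →
      hermForm 6 F 2 b b = 0 → (lift x : P) * ((lift a : P) * (lift b : P)) * (lift x : P) =
        (lift (a + hermForm 6 F 2 a x • x) : P) * (lift (b + hermForm 6 F 2 b x • x) : P) := by
    intro x a b x0 xx a0 aa b0 bb
    rw [← conj_coe L xx aa x0 a0, ← conj_coe L xx bb x0 b0]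
    have h := sq x x0 xx
    calc (lift x : P) * ((lift a : P) * (lift b : P)) * (lift x : P) =
        (lift x : P) * (lift a : P) * 1 * ((lift b : P) * (lift x : P)) := by group
      _ = _ := by rw [← h]; group
  have hA : (lift (v + ω • y) : P) * (lift (v' + ω • y) : P) ∈ N := by
    have h := norm _ (mem y y0 yy) (zc _).symm ((com y0 hu0 yy uu).2 yu) _ hp
    rwa [conj2 y0 yy hv0 vv v'0 v'v', vy, v'y] at h
  have hB : (lift (v + s) : P) * (lift (v' + s) : P) ∈ N := by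
    have h := norm _ (mem s s0 ss) (zc _).symm ((com s0 hu0 ss uu).2 su) _ hp
    rwa [conj2 s0 ss hv0 vv v'0 v'v', vs, v's, one_smul] at h
  -- the family `X m = m u + v + s`
  obtain ⟨b, hb⟩ : ∃ b, b = v + s := ⟨_, rfl⟩
  have bu : hermForm 6 F 2 b u = 0 := by rw [hb, herm_add_left, vu, su, add_zero]
  have ub := herm_eq_zero_swap hF bu
  have bv : hermForm 6 F 2 b v = 1 := by rw [hb, herm_add_left, vv, sv, zero_add]
  have bb : hermForm 6 F 2 b b = 0 := by
    rw [hb]
    simp only [herm_add_left, herm_add_right hF, vv, vs, sv, ss]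
    linear_combination h2
  have by' : hermForm 6 F 2 b y = ω + 1 := by rw [hb, herm_add_left, vy, sy]
  have Xv : ∀ m : F, hermForm 6 F 2 (m • u + b) v = 1 := by
    intro m
    rw [herm_add_left, herm_smul_left, uv, bv]
    ring
  have X0 : ∀ m : F, m • u + b ≠ 0 := fun m => ne_of (by rw [Xv]; exact one_ne_zero)
  have XX : ∀ m m' : F, hermForm 6 F 2 (m • u + b) (m' • u + b) = 0 := by
    intro m m'
    simp only [herm_add_left, herm_smul_left, herm_add_right hF, herm_smul_right, uu, ub, bu, bb]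
    ring
  have Xinj : ∀ m m' : F, (lift (m • u + b) : P) = (lift (m' • u + b) : P) → m = m' := by
    intro m m' h
    obtain ⟨c, hc, h3⟩ := (L.lift_eq_iff (XX m m) (XX m' m') (X0 m) (X0 m')).1 (Subtype.ext h)
    have h4 : c = 1 := by
      have h5 := Xv m'
      rw [h3, herm_smul_left, Xv, mul_one] at h5
      exact h5
    rw [h4, one_smul] at h3
    have h6 := add_right_cancel h3
    have h7 : (m' - m) • u = 0 := by rw [sub_smul, h6, sub_self]
    exact (sub_eq_zero.1 ((smul_eq_zero.1 h7).resolve_right hu0)).symm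
  have eb : v + s = (0 : F) • u + b := by rw [hb]; module
  have eb' : v' + s = k • u + b := by rw [hb, hv']; module
  rw [eb, eb'] at hB
  -- the vectors `a₁`, `a₂`
  obtain ⟨a₁, ha₁⟩ : ∃ a, a = v + ω • y := ⟨_, rfl⟩
  obtain ⟨a₂, ha₂⟩ : ∃ a, a = v' + ω • y := ⟨_, rfl⟩
  rw [← ha₁, ← ha₂] at hA
  have ea : a₂ = k • u + a₁ := by rw [ha₂, ha₁, hv']; module
  have a₁u : hermForm 6 F 2 a₁ u = 0 := by
    rw [ha₁, herm_add_left, herm_smul_left, vu, yu]
    ring
  have ua₁ := herm_eq_zero_swap hF a₁u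
  have a₁a₁ : hermForm 6 F 2 a₁ a₁ = 0 := by
    rw [ha₁]
    simp only [herm_add_left, herm_smul_left, herm_add_right hF, herm_smul_right, vv, vy, yv, yy]
    linear_combination (ω ^ 3) * h2
  have a₁y : hermForm 6 F 2 a₁ y = ω := by
    rw [ha₁, herm_add_left, herm_smul_left, vy, yy]
    ring
  have a₂y : hermForm 6 F 2 a₂ y = ω := by
    rw [ea, herm_add_left, herm_smul_left, uy, a₁y]
    ring
  have a₁0 : a₁ ≠ 0 := ne_of (by rw [a₁y]; exact hω0)
  have a₂0 : a₂ ≠ 0 := ne_of (by rw [a₂y]; exact hω0)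
  have a₂a₂ : hermForm 6 F 2 a₂ a₂ = 0 := by
    rw [ea]
    simp only [herm_add_left, herm_smul_left, herm_add_right hF, herm_smul_right, uu, ua₁, a₁u, a₁a₁]
    ring
  have a₂a₁ : hermForm 6 F 2 a₂ a₁ = 0 := by
    rw [ea]
    simp only [herm_add_left, herm_smul_left, ua₁, a₁a₁]
    ring
  have ba₁ : hermForm 6 F 2 b a₁ = ω ^ 2 := by
    rw [ha₁, herm_add_right hF, herm_smul_right, bv, by']
    linear_combination hω3 + h2 
  have ba₂ : hermForm 6 F 2 b a₂ = ω ^ 2 := by
    rw [ea, herm_add_right hF, herm_smul_right, bu, ba₁]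
    ring
  have Xa₂ : ∀ m : F, hermForm 6 F 2 (m • u + b) a₂ = ω ^ 2 := by
    intro m
    rw [herm_add_left, herm_smul_left, ba₂, ea, herm_add_right hF, herm_smul_right, uu, ua₁]
    ring
  have Xa₁ : ∀ m : F, hermForm 6 F 2 (m • u + b) a₁ = ω ^ 2 := by
    intro m
    rw [herm_add_left, herm_smul_left, ba₁, ua₁]
    ring
  have key : ∀ m : F, (lift a₁ : P) * ((lift a₂ : P) * (lift (m • u + b) : P) * (lift a₂ : P)) * (lift a₁ : P) =
      (lift ((m + ω ^ 2 * k) • u + b) : P) := by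
    intro m
    rw [conj_coe L a₂a₂ (XX m m) a₂0 (X0 m), Xa₂]
    have h3 : hermForm 6 F 2 (m • u + b + ω ^ 2 • a₂) (m • u + b + ω ^ 2 • a₂) = 0 := by
      have h4 := herm_swap hF (m • u + b) a₂
      have h5 := XX m m
      have h6 := Xa₂ m
      rw [Xa₂] at h4
      obtain ⟨x, hx⟩ : ∃ x, x = m • u + b := ⟨_, rfl⟩
      rw [← hx] at h4 h5 h6 ⊢
      rw [herm_add_left, herm_smul_left, herm_add_right hF, herm_add_right hF, herm_smul_right, herm_smul_right,
        h5, h6, h4, a₂a₂]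
      linear_combination (ω ^ 6) * h2
    have h5 : m • u + b + ω ^ 2 • a₂ ≠ 0 := ne_of (b := a₂) (by
      rw [herm_add_left, Xa₂, herm_smul_left, a₂a₂, mul_zero, add_zero]
      exact pow_ne_zero 2 hω0)
    rw [conj_coe L a₁a₁ h3 a₁0 h5]
    have h6 : hermForm 6 F 2 (m • u + b + ω ^ 2 • a₂) a₁ = ω ^ 2 := by
      rw [herm_add_left, Xa₁, herm_smul_left, a₂a₁]
      ring
    rw [h6]
    have h7 : m • u + b + ω ^ 2 • a₂ + ω ^ 2 • a₁ = (m + ω ^ 2 * k) • u + b := by
      have h8 : m • u + b + ω ^ 2 • a₂ + ω ^ 2 • a₁ = (m + ω ^ 2 * k) • u + b + ((2 : F) * ω ^ 2) • a₁ := by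
        rw [ea]
        module
      rw [h8, h2, zero_mul, zero_smul, add_zero]
    rw [h7]
  -- the contradiction
  have habel : ∀ m ∈ N, ∀ n ∈ N, m * n = n * m := by
    intro m hm n hn
    have h3 : (m * n)⁻¹ = m * n := inv_eq_of_mul_eq_one_left (sqN _ (mul_mem hm hn))
    rw [mul_inv_rev, inv_eq_of_mul_eq_one_left (sqN m hm), inv_eq_of_mul_eq_one_left (sqN n hn)] at h3
    exact h3.symm
  have h3 := habel _ hA _ hB
  have q1 := sq a₁ a₁0 a₁a₁
  have q2 := sq a₂ a₂0 a₂a₂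
  have h4 : (lift ((0 : F) • u + b) : P) * (lift (k • u + b) : P) =
      (lift ((0 + ω ^ 2 * k) • u + b) : P) * (lift ((k + ω ^ 2 * k) • u + b) : P) := by
    rw [← key, ← key]
    calc (lift ((0 : F) • u + b) : P) * (lift (k • u + b) : P)
        = (lift ((0 : F) • u + b) : P) * (lift (k • u + b) : P) * ((lift a₁ : P) * ((lift a₂ : P) * (lift a₂ : P)) *
          (lift a₁ : P)) := by rw [q2, mul_one, q1, mul_one]
      _ = (lift ((0 : F) • u + b) : P) * (lift (k • u + b) : P) * ((lift a₁ : P) * (lift a₂ : P)) *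
          ((lift a₂ : P) * (lift a₁ : P)) := by group
      _ = (lift a₁ : P) * (lift a₂ : P) * ((lift ((0 : F) • u + b) : P) * 1 * (lift (k • u + b) : P)) *
          ((lift a₂ : P) * (lift a₁ : P)) := by rw [← h3, mul_one]
      _ = (lift a₁ : P) * (lift a₂ : P) * ((lift ((0 : F) • u + b) : P) * ((lift a₂ : P) * ((lift a₁ : P) *
          (lift a₁ : P)) * (lift a₂ : P)) * (lift (k • u + b) : P)) * ((lift a₂ : P) * (lift a₁ : P)) := by
            rw [q1, mul_one (lift a₂ : P), q2]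
      _ = _ := by group
  have hne : (lift ((0 : F) • u + b) : P) ≠ (lift (k • u + b) : P) := fun h => hk (Xinj _ _ h).symm
  rcases B.uniq (mem _ (X0 _) (XX _ _)) (mem _ (X0 _) (XX _ _)) (mem _ (X0 _) (XX _ _)) (mem _ (X0 _) (XX _ _)) hne
    ((com (X0 _) (X0 _) (XX _ _) (XX _ _)).2 (XX _ _)) ((com (X0 _) (X0 _) (XX _ _) (XX _ _)).2 (XX _ _)) h4 with h | h
  · have h5 := Xinj _ _ h
    rw [zero_add] at h5
    exact (mul_ne_zero (pow_ne_zero 2 hω0) hk) h5
  · have h5 := Xinj _ _ h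
    rw [zero_add] at h5
    have h6 : ω ^ 2 = 1 := mul_right_cancel₀ hk (by rw [h5, one_mul])
    apply hω0
    linear_combination hω - h6 - h2

end label

theorem conj_comm' {x y g : P} (h : x * y = y * x) (hg : g * y = y * g) :
    g * x * g⁻¹ * y = y * (g * x * g⁻¹) := conj_comm_of h hg

/-- `t e` is not in `W`, if `s` commutes with `e` and not with `t` -/
theorem no_mix (B : Bas hF T) {s t e : P} (hs : s ∈ T) (ht : t ∈ T) (he : e * e = 1) (hst : s * t ≠ t * s)
    (hes : e * s = s * e) (het : e * t = t * e) {W : Subgroup P} (sqW : ∀ n ∈ W, n * n = 1) (h1 : t * e ∈ W)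
    (h2 : s * (t * e) * s⁻¹ ∈ W) : False := by
  have h3 : t * e * (s * (t * e) * s⁻¹) ∈ W := mul_mem h1 h2
  have h4 : t * e * (s * (t * e) * s⁻¹) = s * t := by
    rw [B.inv_self hs]
    have h5 := (B.three ht hs).resolve_left (fun h => hst h.symm)
    calc t * e * (s * (t * e) * s) = t * (e * s) * t * (e * s) := by group
      _ = t * s * (e * t) * (s * e) := by rw [hes]; group
      _ = t * s * t * (e * s) * e := by rw [het]; group
      _ = (t * s * t) * s * (e * e) := by rw [hes]; group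
      _ = s * t * (s * s) := by rw [h5, he]; group
      _ = s * t := by rw [B.sq hs, mul_one]
  rw [h4] at h3
  apply hst
  have h5 := sqW _ h3
  have h6 : (s * t)⁻¹ = s * t := inv_eq_of_mul_eq_one_left h5
  rw [mul_inv_rev, B.inv_self hs, B.inv_self ht] at h6
  exact h6.symm

theorem hex_conj (B : Bas hF T) (g : P) {a b c a' b' c' : P} (H : Hex T a b c a' b' c') :
    Hex T (g * a * g⁻¹) (g * b * g⁻¹) (g * c * g⁻¹) (g * a' * g⁻¹) (g * b' * g⁻¹) (g * c' * g⁻¹) := by
  have hinj : ∀ {u v : P}, u ≠ v → g * u * g⁻¹ ≠ g * v * g⁻¹ := fun h h' =>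
    h (mul_left_cancel (mul_right_cancel h'))
  have hc : ∀ {u v : P}, u * v = v * u → g * u * g⁻¹ * (g * v * g⁻¹) = g * v * g⁻¹ * (g * u * g⁻¹) := by
    intro u v h
    calc g * u * g⁻¹ * (g * v * g⁻¹) = g * (u * v) * g⁻¹ := by group
      _ = g * (v * u) * g⁻¹ := by rw [h]
      _ = _ := by group
  refine ⟨B.tri_conj g H.t, B.tri_conj g H.t', hinj H.aa, hinj H.ab, hinj H.ac, hinj H.ba, hinj H.bb, hinj H.bc,
    hinj H.ca, hinj H.cb, hinj H.cc, hc H.caa, hc H.cab, hc H.cac, hc H.cba, hc H.cbb, hc H.cbc, hc H.cca, hc H.ccb,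
    hc H.ccc, ?_⟩
  calc g * a * g⁻¹ * (g * b * g⁻¹) * (g * c * g⁻¹) * (g * a' * g⁻¹ * (g * b' * g⁻¹) * (g * c' * g⁻¹))
      = g * (a * b * c * (a' * b' * c')) * g⁻¹ := by group
    _ = 1 := by rw [H.prod]; group

/-- no product of two members of a hexad with `a`, `b` is in `W` -/
theorem no_pair (B : Bas hF T) {a b t t' : P} (htri : Tri T a b t) (ht' : t' ∈ T) (t'a : t' * a = a * t')
    (t'b : t' * b = b * t') (n3 : t' ≠ a) (n4 : t' ≠ b) (hne : t' ≠ t) (ctt : t' * t = t * t') {W : Subgroup P}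
    (sqW : ∀ n ∈ W, n * n = 1) (norm : ∀ g : P, g * (a * b) = a * b * g → ∀ n ∈ W, g * n * g⁻¹ ∈ W) :
    t * t' ∉ W := by
  intro hp
  have cw : ∀ {s : P}, s * a = a * s → s * b = b * s → s * (a * b) = a * b * s := by
    intro s h1 h2
    calc s * (a * b) = (s * a) * b := by group
      _ = a * (s * b) := by rw [h1]; group
      _ = a * b * s := by rw [h2]; group
  obtain ⟨x1, x2, x3, H⟩ := B.tf.hex a b t htri
  by_cases hmem : t' = x1 ∨ t' = x2 ∨ t' = x3
  · obtain ⟨q, π, lift, u, v, w, hq, L, hiff, hf⟩ := B.exists_label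
    have zc : ∀ x : Subgroup.centralizer ({q} : Set P), q * (x : P) = (x : P) * q :=
      fun x => AllOfLab.zel_comm x
    have mem : ∀ x : Fin 6 → F, x ≠ 0 → hermForm 6 F 2 x x = 0 → (lift x : P) ∈ T :=
      fun x h0 hx => (hiff _).2 (Or.inr (Lab.mem_D h0 hx))
    have neq : ∀ x : Fin 6 → F, x ≠ 0 → hermForm 6 F 2 x x = 0 → q ≠ (lift x : P) := by
      intro x h0 hx h1
      have h2 : zel q = lift x := Subtype.ext h1
      apply L.z_notMem
      rw [h2]
      exact Lab.mem_D h0 hx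
    obtain ⟨n1, n2, n3'⟩ := AllOfLab.Fr3.lift_ne L hf
    obtain ⟨c1, c2, c3⟩ := AllOfLab.Fr3.lift_comm L hf
    have hT : Tri T q (lift u : P) (lift v : P) :=
      ⟨hq, mem _ hf.u_ne hf.uu, mem _ hf.v_ne hf.vv, neq _ hf.u_ne hf.uu, neq _ hf.v_ne hf.vv,
        fun h => n1 (Subtype.ext h), zc _, zc _, AllOfLab.comm_coe.1 c1⟩
    obtain ⟨g, g1, g2, g3⟩ := B.tf.tri _ _ _ _ _ _ htri hT
    obtain ⟨ω, hω⟩ := exists_omega hF
    have hω0 : ω ≠ 0 := by
      rintro rfl
      norm_num at hω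
    have H' := hex_conj B g H
    rw [g1, g2, g3] at H'
    obtain ⟨m1, m2, m3⟩ := FiLocal.hex_mem L hiff hf.u_ne hf.v_ne hf.uu hf.vv rfl rfl hω H'
    have h4 : g * t' * g⁻¹ = lift (u + v) ∨ g * t' * g⁻¹ = lift (ω • u + v) ∨ g * t' * g⁻¹ = lift (ω ^ 2 • u + v) := by
      rcases hmem with h | h | h
      · rw [h]; exact m1
      · rw [h]; exact m2
      · rw [h]; exact m3
    have h5 : ∃ k : F, k ≠ 0 ∧ g * t' * g⁻¹ = lift (k • u + v) := by
      rcases h4 with h | h | h
      · exact ⟨1, one_ne_zero, by rw [one_smul]; exact h⟩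
      · exact ⟨ω, hω0, h⟩
      · exact ⟨ω ^ 2, pow_ne_zero 2 hω0, h⟩
    obtain ⟨k, hk, h6⟩ := h5
    let N : Subgroup P := W.comap (MulAut.conj g⁻¹).toMonoidHom
    have mN : ∀ x : P, x ∈ N ↔ g⁻¹ * x * g⁻¹⁻¹ ∈ W := fun x => Iff.rfl
    refine core B L hiff hf hk (N := N) ?_ ?_ ?_
    · intro n hn
      have h7 := sqW _ ((mN n).1 hn)
      have h8 : g⁻¹ * (n * n) * g = 1 := by
        rw [← h7]
        group
      calc n * n = g * (g⁻¹ * (n * n) * g) * g⁻¹ := by group
        _ = 1 := by rw [h8]; group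
    · intro s hs sq su n hn
      rw [mN]
      have h7 : g⁻¹ * s * g * (a * b) = a * b * (g⁻¹ * s * g) := by
        have ea : a = g⁻¹ * q * g := by rw [← g1]; group
        have eb : b = g⁻¹ * (lift u : P) * g := by rw [← g2]; group
        rw [ea, eb]
        calc g⁻¹ * s * g * (g⁻¹ * q * g * (g⁻¹ * (lift u : P) * g)) = g⁻¹ * (s * q) * (lift u : P) * g := by group
          _ = g⁻¹ * q * (s * (lift u : P)) * g := by rw [sq]; group
          _ = g⁻¹ * q * ((lift u : P) * s) * g := by rw [su]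
          _ = _ := by group
      have h8 := norm _ h7 _ ((mN n).1 hn)
      have e : g⁻¹ * (s * n * s) * g⁻¹⁻¹ = g⁻¹ * s * g * (g⁻¹ * n * g⁻¹⁻¹) * (g⁻¹ * s * g)⁻¹ := by
        have h9 := B.inv_self hs
        calc g⁻¹ * (s * n * s) * g⁻¹⁻¹ = g⁻¹ * (s * n * s⁻¹) * g⁻¹⁻¹ := by rw [h9]
          _ = _ := by group
      rw [e]
      exact h8
    · rw [mN, ← h6, ← g3]
      have e : g⁻¹ * (g * t * g⁻¹ * (g * t' * g⁻¹)) * g⁻¹⁻¹ = t * t' := by group
      rw [e]
      exact hp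
  · push Not at hmem
    obtain ⟨k1, k2, k3⟩ := hmem
    obtain ⟨s, hs, sa, sb, st, sne⟩ := exists_ncomm B H ht' t'a t'b ctt n3 n4 hne k1 k2 k3
    refine no_mix B hs ht' (B.sq htri.mw) sne st.symm ctt.symm sqW ?_ ?_
    · rw [ctt]; exact hp
    · rw [ctt]; exact norm s (cw sa sb) _ hp

/-- **`W` contains only one product of two commuting transpositions.** -/
theorem eq_z (B : Bas hF T) {a b : P} (ha : a ∈ T) (hb : b ∈ T) (hab : a ≠ b) (cab : a * b = b * a)
    {W : Subgroup P} (sqW : ∀ n ∈ W, n * n = 1)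
    (norm : ∀ g : P, g * (a * b) = a * b * g → ∀ n ∈ W, g * n * g⁻¹ ∈ W) (hz : a * b ∈ W) {c d : P} (hc : c ∈ T)
    (hd : d ∈ T) (hcd : c ≠ d) (ccd : c * d = d * c) (hw : c * d ∈ W) : c * d = a * b := by
  have cw : ∀ {s : P}, s * a = a * s → s * b = b * s → s * (a * b) = a * b * s := by
    intro s h1 h2
    calc s * (a * b) = (s * a) * b := by group
      _ = a * (s * b) := by rw [h1]; group
      _ = a * b * s := by rw [h2]; group
  have habel : ∀ m ∈ W, ∀ n ∈ W, m * n = n * m := by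
    intro m hm n hn
    have h3 : (m * n)⁻¹ = m * n := inv_eq_of_mul_eq_one_left (sqW _ (mul_mem hm hn))
    rw [mul_inv_rev, inv_eq_of_mul_eq_one_left (sqW m hm), inv_eq_of_mul_eq_one_left (sqW n hn)] at h3
    exact h3.symm
  obtain ⟨w, hw'⟩ : ∃ w, w = c * d := ⟨_, rfl⟩
  rw [← hw'] at hw
  have wz : w * (a * b) = a * b * w := habel _ hw _ hz
  -- step 1
  have key : ∀ t ∈ T, t * a = a * t → t * b = b * t → a ≠ t → b ≠ t → w * t = t * w := by
    intro t ht ta tb na nb
    have htri : Tri T a b t := ⟨ha, hb, ht, hab, na, nb, cab, ta.symm, tb.symm⟩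
    have tz := cw ta tb
    obtain ⟨y, hy⟩ : ∃ y, y = w * t * w⁻¹ := ⟨_, rfl⟩
    have yT : y ∈ T := by rw [hy]; exact B.conjT w ht
    have yz : y * (a * b) = a * b * y := by rw [hy]; exact conj_comm_of tz wz
    obtain ⟨ya, yb⟩ := B.comm_of_pair ha hb yT hab cab yz
    have hty : t * y ∈ W := by
      have h1 : t * w * t⁻¹ * w⁻¹ ∈ W := mul_mem (norm t tz w hw) (inv_mem hw)
      rw [B.inv_self ht] at h1
      have e : t * y = t * w * t * w⁻¹ := by rw [hy]; group
      rwa [e]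
    have cty : t * y = y * t := by
      have h6 : (t * y)⁻¹ = t * y := inv_eq_of_mul_eq_one_left (sqW _ hty)
      rw [mul_inv_rev, B.inv_self ht, B.inv_self yT] at h6
      exact h6.symm
    obtain ⟨s, hs, sa, sb, sne⟩ := B.config htri
    by_cases h1 : y = t
    · calc w * t = w * t * w⁻¹ * w := by group
        _ = t * w := by rw [← hy, h1]
    by_cases h2 : y = a
    · exfalso
      rw [h2] at hty
      exact no_mix B hs ht (B.sq ha) sne sa.symm ta.symm sqW hty (norm s (cw sa sb) _ hty)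
    by_cases h3 : y = b
    · exfalso
      rw [h3] at hty
      exact no_mix B hs ht (B.sq hb) sne sb.symm tb.symm sqW hty (norm s (cw sa sb) _ hty)
    · exact absurd hty (no_pair B htri yT ya yb h2 h3 h1 cty.symm sqW norm)
  -- step 2
  have key2 : ∀ t ∈ T, t * a = a * t → t * b = b * t → a ≠ t → b ≠ t → t * c = c * t ∧ t * d = d * t := by
    intro t ht ta tb na nb
    refine B.comm_of_pair hc hd ht hcd ccd ?_
    rw [← hw']
    exact (key t ht ta tb na nb).symm
  obtain ⟨t0, htri⟩ := B.third ha hb hab cab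
  obtain ⟨x1, x2, x3, H⟩ := B.tf.hex a b t0 htri
  have k0 := key2 t0 htri.mw htri.cxw.symm htri.cyw.symm htri.xw htri.yw
  have k1 := key2 x1 H.t'.mx H.caa.symm H.cba.symm H.aa H.ba
  have k2 := key2 x2 H.t'.my H.cab.symm H.cbb.symm H.ab H.bb
  have k3 := key2 x3 H.t'.mw H.cac.symm H.cbc.symm H.ac H.bc
  have eab : a * b = (t0 * (x1 * x2 * x3))⁻¹ := by
    rw [eq_inv_iff_mul_eq_one, ← mul_assoc (a * b) t0]
    exact H.prod
  have fin : ∀ e ∈ T, (∀ t ∈ T, t * a = a * t → t * b = b * t → a ≠ t → b ≠ t → t * e = e * t) → e = a ∨ e = b := by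
    intro e he hall
    by_contra hcon
    push Not at hcon
    have j0 : Commute t0 e := hall t0 htri.mw htri.cxw.symm htri.cyw.symm htri.xw htri.yw
    have j1 : Commute x1 e := hall x1 H.t'.mx H.caa.symm H.cba.symm H.aa H.ba
    have j2 : Commute x2 e := hall x2 H.t'.my H.cab.symm H.cbb.symm H.ab H.bb
    have j3 : Commute x3 e := hall x3 H.t'.mw H.cac.symm H.cbc.symm H.ac H.bc
    have j4 : Commute (a * b) e := by
      rw [eab]
      exact (j0.mul_left ((j1.mul_left j2).mul_left j3)).inv_left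
    obtain ⟨ea, eb⟩ := B.comm_of_pair ha hb he hab cab j4.eq.symm
    have htri' : Tri T a b e := ⟨ha, hb, he, hab, Ne.symm hcon.1, Ne.symm hcon.2, cab, ea.symm, eb.symm⟩
    obtain ⟨s, hs, sa, sb, sne⟩ := B.config htri'
    refine sne (hall s hs sa sb ?_ ?_)
    · rintro rfl
      exact sne ea.symm
    · rintro rfl
      exact sne eb.symm
  rcases fin c hc (fun t ht h1 h2 h3 h4 => (key2 t ht h1 h2 h3 h4).1) with h1 | h1 <;>
    rcases fin d hd (fun t ht h1 h2 h3 h4 => (key2 t ht h1 h2 h3 h4).2) with h2 | h2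
  · exact absurd (h1.trans h2.symm) hcd
  · rw [h1, h2]
  · rw [h1, h2, cab]
  · exact absurd (h1.trans h2.symm) hcd

end abs

/-! ### The group `Fi22` -/

open Cfsg.Agent.StdFi22.MainFi22 (bas)
open Cfsg.Agent.R08.AutT (T)
open Cfsg.Agent.H226.Tall

/-- an involution centralising a Sylow subgroup lies in it -/
theorem mem_of_cent {X : Type*} [Group X] [Finite X] (S : Sylow 2 X) {y : X} (hyy : y * y = 1)
    (hy : ∀ x ∈ S, x * y = y * x) : y ∈ S := by
  have hfact : Fact (Nat.Prime 2) := ⟨Nat.prime_two⟩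
  have hp : IsPGroup 2 ↥(Subgroup.zpowers y) := by
    rintro ⟨g, hg⟩
    refine ⟨1, ?_⟩
    obtain ⟨k, rfl⟩ := Subgroup.mem_zpowers_iff.1 hg
    apply Subtype.ext
    show (y ^ k) ^ (2 ^ 1) = 1
    rw [pow_one, pow_two, ← zpow_add, ← two_mul, zpow_mul, zpow_two, hyy, one_zpow]
  have hle : (S : Subgroup X) ≤ Subgroup.normalizer (Subgroup.zpowers y : Set X) := by
    intro s hs
    rw [Subgroup.mem_normalizer_iff]
    intro x
    have h1 : ∀ s ∈ S, ∀ x ∈ Subgroup.zpowers y, s * x * s⁻¹ ∈ Subgroup.zpowers y := by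
      intro s hs x hx
      obtain ⟨k, rfl⟩ := Subgroup.mem_zpowers_iff.1 hx
      have h2 : Commute s y := hy s hs
      rw [(h2.zpow_right k).eq, mul_inv_cancel_right]
      exact hx
    refine ⟨h1 s hs x, fun h => ?_⟩
    have h3 := h1 s⁻¹ (S.inv_mem hs) _ h
    have e : s⁻¹ * (s * x * s⁻¹) * s⁻¹⁻¹ = x := by group
    rwa [e] at h3
  have h1 : IsPGroup 2 ↥((S : Subgroup X) ⊔ Subgroup.zpowers y) := S.isPGroup'.to_sup_of_normal_right' hp hle
  have h2 := S.is_maximal' h1 le_sup_left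
  have h3 : y ∈ (S : Subgroup X) := by
    rw [← h2]
    exact Subgroup.mem_sup_right (Subgroup.mem_zpowers y)
  exact h3

/-- the 2-central involutions are the products of two commuting transpositions -/
theorem twoC_pair {z : Spor.Fi22} (hz : TwoC z) : ∃ a ∈ T, ∃ b ∈ T, a ≠ b ∧ a * b = b * a ∧ z = a * b := by
  have hfin : Finite Spor.Fi22 := Cfsg.Agent.R01.Fi22Facts.finite
  have hfact : Fact (Nat.Prime 2) := ⟨Nat.prime_two⟩
  obtain ⟨ho, S, hS⟩ := hz
  have hzz : z * z = 1 := by rw [← pow_two, ← ho, pow_orderOf_eq_one]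
  have hz1 : z ≠ 1 := by
    rintro rfl
    rw [orderOf_one] at ho
    omega
  have hSz : ∀ s ∈ S, s * z = z * s := fun s hs => Subgroup.mem_centralizer_singleton_iff.1 (hS hs)
  obtain ⟨a, b, c, c', t, -⟩ := bas.tf.four
  obtain ⟨S0, hS0⟩ := cen_two t.mx t.my t.xy t.cxy
  obtain ⟨k', hk⟩ := MulAction.exists_smul_eq Spor.Fi22 S S0
  obtain ⟨k, rfl⟩ : ∃ k, k' = k⁻¹ := ⟨k'⁻¹, (inv_inv k').symm⟩
  have hmem : ∀ s ∈ S, k⁻¹ * s * k ∈ S0 := by
    intro s hs
    have h0 : k⁻¹ * s * k⁻¹⁻¹ ∈ S0 := by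
      rw [← hk]
      exact ⟨s, hs, rfl⟩
    rwa [inv_inv] at h0
  have h1 : ∀ s ∈ S, s * (k * (a * b) * k⁻¹) = k * (a * b) * k⁻¹ * s := by
    intro s hs
    have h2 := hS0 _ (hmem s hs)
    calc s * (k * (a * b) * k⁻¹) = k * (k⁻¹ * s * k * (a * b)) * k⁻¹ := by group
      _ = k * (a * b * (k⁻¹ * s * k)) * k⁻¹ := by rw [h2]
      _ = _ := by group
  have hww : k * (a * b) * k⁻¹ * (k * (a * b) * k⁻¹) = 1 := by
    have h3 := mul_sq_of (bas.sq t.mx) (bas.sq t.my) t.cxy
    calc k * (a * b) * k⁻¹ * (k * (a * b) * k⁻¹) = k * (a * b * (a * b)) * k⁻¹ := by group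
      _ = 1 := by rw [h3]; group
  have hw1 : k * (a * b) * k⁻¹ ≠ 1 := by
    intro h
    have h4 : a * b = 1 := by
      calc a * b = k⁻¹ * (k * (a * b) * k⁻¹) * k := by group
        _ = 1 := by rw [h]; group
    apply t.xy
    rw [← bas.inv_self t.my]
    exact eq_inv_of_mul_eq_one_left h4
  have h5 := sheet0.z1 S z (mem_of_cent S hzz hSz) hzz hz1 hSz _ (mem_of_cent S hww h1) hww hw1 h1
  refine ⟨k * a * k⁻¹, bas.conjT k t.mx, k * b * k⁻¹, bas.conjT k t.my, ?_, ?_, ?_⟩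
  · intro h
    exact t.xy (mul_left_cancel (mul_right_cancel h))
  · calc k * a * k⁻¹ * (k * b * k⁻¹) = k * (a * b) * k⁻¹ := by group
      _ = k * (b * a) * k⁻¹ := by rw [t.cxy]
      _ = _ := by group
  · rw [h5]
    group

theorem rowOne0 : RowOne Spor.Fi22 := by
  intro z hz _ W sqW hzW hC w hw hα
  obtain ⟨α, hα⟩ := hα
  obtain ⟨a, ha, b, hb, hab, cab, rfl⟩ := twoC_pair hz
  rw [map_mul] at hα
  rw [← hα] at hw ⊢
  refine eq_z bas ha hb hab cab sqW ?_ hzW (kt.aut α a ha) (kt.aut α b hb) (fun h => hab (α.injective h)) ?_ hw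
  · intro g hg n hn
    have h1 : g ∈ Subgroup.normalizer (W : Set Spor.Fi22) := hC (Subgroup.mem_centralizer_singleton_iff.2 hg)
    exact (Subgroup.mem_normalizer_iff.1 h1 n).1 hn
  · rw [← map_mul, ← map_mul, cab]

theorem rowTwo0 : RowTwo Spor.Fi22 := by
  refine rowTwo_of_odd fun z hz => ?_
  obtain ⟨a, ha, b, hb, hab, cab, rfl⟩ := twoC_pair hz
  obtain ⟨c, t⟩ := bas.third ha hb hab cab
  obtain ⟨s, hs, sa, sb, sne⟩ := bas.config t
  have hsc := (bas.three hs t.mw).resolve_left sne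
  have cz : c * (a * b) = a * b * c := by
    calc c * (a * b) = (c * a) * b := by group
      _ = a * (c * b) := by rw [← t.cxw]; group
      _ = a * b * c := by rw [← t.cyw]; group
  have sz : s * (a * b) = a * b * s := by
    calc s * (a * b) = (s * a) * b := by group
      _ = a * (s * b) := by rw [sa]; group
      _ = a * b * s := by rw [sb]; group
  have h3 : (s * c) ^ 3 = 1 := by
    calc (s * c) ^ 3 = (s * c * s) * (c * s * c) := by rw [pow_succ, pow_two]; group
      _ = (c * s * c) * (c * s * c) := by rw [hsc]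
      _ = c * s * (c * c) * s * c := by group
      _ = c * (s * s) * c := by rw [bas.sq t.mw]; group
      _ = 1 := by rw [bas.sq hs, mul_one, bas.sq t.mw]
  refine ⟨s * c, ?_, ?_, ?_⟩
  · calc s * c * (a * b) = s * (c * (a * b)) := by group
      _ = s * (a * b) * c := by rw [cz]; group
      _ = a * b * (s * c) := by rw [sz]; group
  · intro h
    apply sne
    have h4 : s = c := by
      rw [← bas.inv_self t.mw]
      exact eq_inv_of_mul_eq_one_left h
    rw [h4]
  · exact Odd.of_dvd_nat (by decide) (orderOf_dvd_of_pow_eq_one h3)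

/-- **Row `Fi22`.** -/
theorem both_fi22 {K : Type*} [Group K] (h : Spor.IsoFi22 K) : Both K := by
  obtain ⟨e⟩ := h
  have hfin : Finite Spor.Fi22 := Cfsg.Agent.R01.Fi22Facts.finite
  exact Both.congr ⟨rowOne0, rowTwo0⟩ e.symm

end Cfsg.Agent.H711.TallFi
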